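import Groth.Agent.Lib.Helper2.AltTr.Homotopy

/-! # Morphisms in the derived category out of K-projective complexes are homotopy classes -/

set_option autoImplicit false
universe w v u

namespace Groth.Agent.Lib.Helper2.AltTr

open CategoryTheory CategoryTheory.Limits DerivedCategory

variable {C : Type u} [Category.{v} C] [Abelian C] [HasDerivedCategory.{w} C]

theorem exists_Q_map_eq (K L : CochainComplex C ℤ) [K.IsKProjective]
    (φ : DerivedCategory.Q.obj K ⟶ DerivedCategory.Q.obj L) :
    ∃ a : K ⟶ L, DerivedCategory.Q.map a = φ := by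
  let e := quotientCompQhIso C
  obtain ⟨ψ, hψ⟩ := (CochainComplex.IsKProjective.Qh_map_bijective K
    ((HomotopyCategory.quotient _ _).obj L)).surjective (e.hom.app K ≫ φ ≫ e.inv.app L)
  obtain ⟨a, rfl⟩ := (HomotopyCategory.quotient C (ComplexShape.up ℤ)).map_surjective ψ
  refine ⟨a, ?_⟩
  have hn := e.hom.naturality a
  simp only [Functor.comp_map] at hn
  rw [← cancel_epi (e.hom.app K), ← hn, hψ]
  simp

theorem nonempty_homotopy_of_Q_map_eq (K L : CochainComplex C ℤ) [K.IsKProjective]
    (a a' : K ⟶ L) (h : DerivedCategory.Q.map a = DerivedCategory.Q.map a') :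
    Nonempty (Homotopy a a') := by
  let e := quotientCompQhIso C
  have h1 : DerivedCategory.Qh.map ((HomotopyCategory.quotient C (ComplexShape.up ℤ)).map a) =
      DerivedCategory.Qh.map ((HomotopyCategory.quotient C (ComplexShape.up ℤ)).map a') := by
    have hn := e.hom.naturality a
    have hn' := e.hom.naturality a'
    simp only [Functor.comp_map] at hn hn'
    rw [← cancel_mono (e.hom.app L), hn, hn', h]
  exact ⟨HomotopyCategory.homotopyOfEq _ _
    ((CochainComplex.IsKProjective.Qh_map_bijective K _).injective h1)⟩

end Groth.Agent.Lib.Helper2.AltTr
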