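import Mathlib

/-! # Alternating traces of endomorphisms of bounded complexes of finite free modules
are homotopy invariant and cyclic. -/

set_option autoImplicit false
universe u

namespace Groth.Agent.Lib.Helper2.AltTr

open CategoryTheory CategoryTheory.Limits

variable {Λ : Type u} [CommRing Λ]

/-- Telescoping sums over integer intervals. -/
theorem sum_Icc_telescope {G : Type*} [AddCommGroup G] (F : ℤ → G) (a b : ℤ) (h : a - 1 ≤ b) :
    ∑ i ∈ Finset.Icc a b, (F i - F (i - 1)) = F b - F (a - 1) := by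
  induction b, h using Int.le_induction with
  | base =>
    have : Finset.Icc a (a - 1) = ∅ := Finset.Icc_eq_empty (by lia)
    rw [this, Finset.sum_empty, sub_self]
  | succ b hb ih =>
    have : Finset.Icc a (b + 1) = insert (b + 1) (Finset.Icc a b) := by
      ext i; simp only [Finset.mem_Icc, Finset.mem_insert]; lia
    rw [this, Finset.sum_insert (by simp), ih]
    have : b + 1 - 1 = b := by ring
    rw [this]; abel

/-- The alternating trace over `[a, b]`. -/
noncomputable def altTr (P : CochainComplex (ModuleCat.{u} Λ) ℤ) (a b : ℤ) (f : P ⟶ P) : Λ :=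
  ∑ i ∈ Finset.Icc a b, ((i.negOnePow : ℤˣ) : ℤ) • LinearMap.trace Λ (P.X i) (f.f i).hom

theorem trace_eq_zero_of_isZero_left {X Y : ModuleCat.{u} Λ} (hY : IsZero Y)
    (u : X ⟶ Y) (v : Y ⟶ X) : LinearMap.trace Λ X (u ≫ v).hom = 0 := by
  have : u = 0 := hY.eq_of_tgt _ _
  rw [this, zero_comp]
  simp

theorem trace_comp_comm {X Y : ModuleCat.{u} Λ} [Module.Free Λ X] [Module.Finite Λ X]
    [Module.Free Λ Y] [Module.Finite Λ Y]
    (u : X ⟶ Y) (v : Y ⟶ X) :
    LinearMap.trace Λ X (u ≫ v).hom = LinearMap.trace Λ Y (v ≫ u).hom := by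
  rw [ModuleCat.hom_comp, ModuleCat.hom_comp]
  exact LinearMap.trace_comp_comm' _ _

variable {P Q : CochainComplex (ModuleCat.{u} Λ) ℤ}

theorem altTr_comp_comm (a b : ℤ)
    (hP : ∀ i, Module.Finite Λ (P.X i) ∧ Module.Free Λ (P.X i))
    (hQ : ∀ i, Module.Finite Λ (Q.X i) ∧ Module.Free Λ (Q.X i))
    (u : P ⟶ Q) (v : Q ⟶ P) : altTr P a b (u ≫ v) = altTr Q a b (v ≫ u) := by
  unfold altTr
  refine Finset.sum_congr rfl fun i _ => ?_
  haveI := (hP i).1; haveI := (hP i).2; haveI := (hQ i).1; haveI := (hQ i).2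
  congr 1
  exact trace_comp_comm (u.f i) (v.f i)

theorem altTr_eq_of_homotopy (a b : ℤ)
    (hP : ∀ i, Module.Finite Λ (P.X i) ∧ Module.Free Λ (P.X i))
    (hv : ∀ i : ℤ, i < a ∨ b < i → IsZero (P.X i))
    {f g : P ⟶ P} (h : Homotopy f g) : altTr P a b f = altTr P a b g := by
  classical
  rcases lt_or_ge b (a - 1) with hab | hab
  · unfold altTr
    rw [Finset.Icc_eq_empty (by lia), Finset.sum_empty, Finset.sum_empty]
  -- T i = trace of `d i (i+1) ≫ h (i+1) i` on `P.X i`
  let T : ℤ → Λ := fun i => LinearMap.trace Λ (P.X i) (P.d i (i + 1) ≫ h.hom (i + 1) i).hom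
  let F : ℤ → Λ := fun i => ((i.negOnePow : ℤˣ) : ℤ) • T i
  have hkey : ∀ i, ((i.negOnePow : ℤˣ) : ℤ) • LinearMap.trace Λ (P.X i) (f.f i).hom =
      ((i.negOnePow : ℤˣ) : ℤ) • LinearMap.trace Λ (P.X i) (g.f i).hom + (F i - F (i - 1)) := by
    intro i
    haveI := (hP i).1; haveI := (hP i).2; haveI := (hP (i - 1)).1; haveI := (hP (i - 1)).2
    have hc := h.comm i
    rw [dNext_eq h.hom (show (ComplexShape.up ℤ).Rel i (i + 1) from rfl),
      prevD_eq h.hom (show (ComplexShape.up ℤ).Rel (i - 1) i by simp)] at hc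
    have e1 : LinearMap.trace Λ (P.X i) (f.f i).hom = T i +
        LinearMap.trace Λ (P.X i) (h.hom i (i - 1) ≫ P.d (i - 1) i).hom +
        LinearMap.trace Λ (P.X i) (g.f i).hom := by
      rw [hc, ModuleCat.hom_add, ModuleCat.hom_add, map_add, map_add]
    have e2 : LinearMap.trace Λ (P.X i) (h.hom i (i - 1) ≫ P.d (i - 1) i).hom =
        LinearMap.trace Λ (P.X (i - 1)) (P.d (i - 1) i ≫ h.hom i (i - 1)).hom :=
      trace_comp_comm _ _
    have e3 : LinearMap.trace Λ (P.X (i - 1)) (P.d (i - 1) i ≫ h.hom i (i - 1)).hom =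
        T (i - 1) := by
      have hi : i - 1 + 1 = i := by ring
      simp only [T]
      rw [hi]
    rw [e1, e2, e3]
    simp only [F]
    have hs : (((i - 1).negOnePow : ℤˣ) : ℤ) = - ((i.negOnePow : ℤˣ) : ℤ) := by
      rw [Int.negOnePow_sub, Int.negOnePow_one]; simp
    rw [hs]
    simp only [smul_add, neg_smul]
    abel
  unfold altTr
  rw [Finset.sum_congr rfl fun i _ => hkey i, Finset.sum_add_distrib,
    sum_Icc_telescope F a b hab]
  have hb : F b = 0 := by
    simp only [F, T]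
    rw [trace_eq_zero_of_isZero_left (hv (b + 1) (Or.inr (by lia)))]
    simp
  have ha : F (a - 1) = 0 := by
    simp only [F, T]
    have hz : IsZero (P.X (a - 1)) := hv (a - 1) (Or.inl (by lia))
    have : P.d (a - 1) (a - 1 + 1) ≫ h.hom (a - 1 + 1) (a - 1) = 0 := hz.eq_of_src _ _
    rw [this]
    simp
  rw [hb, ha, sub_zero, add_zero]

end Groth.Agent.Lib.Helper2.AltTr
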